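import Cfsg.Agent.AbelianPerm.Std

/-!
The largest abelian subgroups of alternating groups form one class.
-/

set_option autoImplicit false

namespace CfsgLib.AbelianPerm

open MulAction

theorem weight_four {m : ℕ} (hm : 1 ≤ m) (h2 : m ≠ 2) (h3 : m ≠ 3) :
    81 * m ^ 3 ≤ 64 * 3 ^ m ∧ (m ≠ 4 → 243 * m ^ 3 ≤ 125 * 3 ^ m) := by
  induction m using Nat.strong_induction_on with
  | _ m ih =>
    rcases Nat.lt_or_ge m 6 with h | h
    · interval_cases m <;> simp_all
    · obtain ⟨j, rfl⟩ : ∃ j, m = j + 1 := ⟨m - 1, by omega⟩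
      obtain ⟨h1, h4⟩ := ih j (by omega) (by omega) (by omega) (by omega)
      have h4' := h4 (by omega)
      have hc : (j + 1) ^ 3 ≤ 3 * j ^ 3 := by nlinarith [Nat.mul_le_mul (show 5 ≤ j by omega) (show 5 ≤ j by omega)]
      rw [pow_succ 3 j]
      exact ⟨by nlinarith, fun _ => by nlinarith⟩

theorem prod_weight {ι : Type*} (S : Finset ι) (s : ι → ℕ) (hs : ∀ i ∈ S, 1 ≤ s i ∧ s i ≠ 2 ∧ s i ≠ 3) :
    81 ^ S.card * (∏ i ∈ S, s i) ^ 3 ≤ 64 ^ S.card * 3 ^ (∑ i ∈ S, s i) := by
  rw [← Finset.prod_pow, ← Finset.prod_pow_eq_pow_sum, ← Finset.prod_const, ← Finset.prod_const,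
    ← Finset.prod_mul_distrib, ← Finset.prod_mul_distrib]
  exact Finset.prod_le_prod' fun i hi => (weight_four (hs i hi).1 (hs i hi).2.1 (hs i hi).2.2).1

theorem shape {ι : Type*} [Fintype ι] (s : ι → ℕ) (hs : ∀ i, 1 ≤ s i) (h2 : ∀ i, s i ≠ 2) {j k : ℕ} (hj : j ≤ 2)
    (hsum : ∑ i, s i = 4 * j + 3 * k) (hprod : 4 ^ j * 3 ^ k ≤ ∏ i, s i) :
    (∀ i, s i = 3 ∨ s i = 4) ∧ (Finset.univ.filter fun i => s i = 4).card = j ∧
      (Finset.univ.filter fun i => ¬ s i = 4).card = k := by
  classical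
  set S := Finset.univ.filter fun i => ¬ s i = 3
  set R := Finset.univ.filter fun i => s i = 3
  have hR : ∀ i ∈ R, s i = 3 := fun i hi => (Finset.mem_filter.1 hi).2
  have hsumR : ∑ i ∈ R, s i = 3 * R.card := by
    rw [Finset.sum_congr rfl hR, Finset.sum_const, smul_eq_mul, mul_comm]
  have hprodR : ∏ i ∈ R, s i = 3 ^ R.card := by rw [Finset.prod_congr rfl hR, Finset.prod_const]
  have hsumS : 3 * R.card + ∑ i ∈ S, s i = 4 * j + 3 * k := by
    rw [← hsum, ← hsumR]
    exact Finset.sum_filter_add_sum_filter_not _ _ _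
  have hprodS : 4 ^ j * 3 ^ k ≤ 3 ^ R.card * ∏ i ∈ S, s i := by
    refine hprod.trans (le_of_eq ?_)
    rw [← hprodR]
    exact (Finset.prod_filter_mul_prod_filter_not _ _ _).symm
  have hS : ∀ i ∈ S, 1 ≤ s i ∧ s i ≠ 2 ∧ s i ≠ 3 := fun i hi => ⟨hs i, h2 i, (Finset.mem_filter.1 hi).2⟩
  set E := 3 * R.card + ∑ i ∈ S, s i with hE
  set Q := 3 ^ R.card * ∏ i ∈ S, s i
  have hT : 81 ^ j * (4 ^ j * 3 ^ k) ^ 3 = 64 ^ j * 3 ^ E := by
    rw [hsumS, mul_pow, ← pow_mul 4, ← pow_mul 3, pow_add, pow_mul 3 4 j, mul_comm j 3, pow_mul 4 3 j]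
    norm_num
    ring
  have hlow : 64 ^ j * 3 ^ E ≤ 81 ^ j * Q ^ 3 :=
    hT.ge.trans (Nat.mul_le_mul_left _ (Nat.pow_le_pow_left hprodS 3))
  have hup : 81 ^ S.card * Q ^ 3 ≤ 64 ^ S.card * 3 ^ E := by
    rw [hE, mul_pow, pow_add, ← pow_mul 3 R.card 3, mul_comm R.card 3]
    calc _ = 3 ^ (3 * R.card) * (81 ^ S.card * (∏ i ∈ S, s i) ^ 3) := by ring
      _ ≤ 3 ^ (3 * R.card) * (64 ^ S.card * 3 ^ ∑ i ∈ S, s i) := Nat.mul_le_mul_left _ (prod_weight S s hS)
      _ = _ := by ring
  have hpos : 0 < 3 ^ E := pow_pos (by norm_num) _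
  have hSj : S.card ≤ j := by
    by_contra hcon
    obtain ⟨d, hd⟩ : ∃ d, S.card = j + (d + 1) := ⟨S.card - j - 1, by omega⟩
    have hup2 : 81 ^ j * 81 ^ (d + 1) * Q ^ 3 ≤ 64 ^ j * 64 ^ (d + 1) * 3 ^ E := by
      rw [← pow_add, ← pow_add, ← hd]; exact hup
    have h1 : 81 ^ (d + 1) * (64 ^ j * 3 ^ E) ≤ 81 ^ (d + 1) * (81 ^ j * Q ^ 3) := Nat.mul_le_mul_left _ hlow
    have h2 : 81 ^ (d + 1) * (64 ^ j * 3 ^ E) ≤ 64 ^ (d + 1) * (64 ^ j * 3 ^ E) := by
      calc _ ≤ _ := h1
        _ = 81 ^ j * 81 ^ (d + 1) * Q ^ 3 := by ring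
        _ ≤ 64 ^ j * 64 ^ (d + 1) * 3 ^ E := hup2
        _ = _ := by ring
    have h3 := Nat.le_of_mul_le_mul_right h2 (by positivity)
    exact absurd h3 (not_le.2 (Nat.pow_lt_pow_left (by norm_num) (by omega)))
  have hfour : ∀ i ∈ S, s i = 4 := by
    intro i hi
    by_contra h4
    have hw := prod_weight (S.erase i) s fun x hx => hS x (Finset.mem_of_mem_erase hx)
    have hi4 := (weight_four (hS i hi).1 (hS i hi).2.1 (hS i hi).2.2).2 h4
    have hc : (S.erase i).card + 1 = S.card := Finset.card_erase_add_one hi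
    obtain ⟨d, hd⟩ : ∃ d, j = (S.erase i).card + d + 1 := ⟨j - S.card, by omega⟩
    have hup' : 243 * 81 ^ (S.erase i).card * Q ^ 3 ≤ 125 * 64 ^ (S.erase i).card * 3 ^ E := by
      have hp := Finset.mul_prod_erase S s hi
      have hq := Finset.add_sum_erase S s hi
      rw [hE, show Q = 3 ^ R.card * ∏ i ∈ S, s i from rfl, ← hp, ← hq]
      calc 243 * 81 ^ (S.erase i).card * (3 ^ R.card * (s i * ∏ x ∈ S.erase i, s x)) ^ 3
          = 3 ^ (3 * R.card) * ((243 * s i ^ 3) * (81 ^ (S.erase i).card * (∏ x ∈ S.erase i, s x) ^ 3)) := by ring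
        _ ≤ 3 ^ (3 * R.card) * ((125 * 3 ^ s i) * (64 ^ (S.erase i).card * 3 ^ ∑ x ∈ S.erase i, s x)) :=
          Nat.mul_le_mul_left _ (Nat.mul_le_mul hi4 hw)
        _ = _ := by ring
    rw [hd] at hlow
    have h1 : 243 * 64 ^ (d + 1) * (64 ^ (S.erase i).card * 3 ^ E) ≤
        125 * 81 ^ (d + 1) * (64 ^ (S.erase i).card * 3 ^ E) := by
      calc _ = 243 * (64 ^ ((S.erase i).card + d + 1) * 3 ^ E) := by ring
        _ ≤ 243 * (81 ^ ((S.erase i).card + d + 1) * Q ^ 3) := Nat.mul_le_mul_left _ hlow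
        _ = 81 ^ (d + 1) * (243 * 81 ^ (S.erase i).card * Q ^ 3) := by ring
        _ ≤ 81 ^ (d + 1) * (125 * 64 ^ (S.erase i).card * 3 ^ E) := Nat.mul_le_mul_left _ hup'
        _ = _ := by ring
    have h3 := Nat.le_of_mul_le_mul_right h1 (by positivity)
    have hd2 : d ≤ 1 := by omega
    interval_cases d <;> norm_num at h3
  have hs34 : ∀ i, s i = 3 ∨ s i = 4 := fun i => by
    by_cases h : s i = 3
    · exact Or.inl h
    · exact Or.inr (hfour i (Finset.mem_filter.2 ⟨Finset.mem_univ _, h⟩))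
  have hsum4 : ∑ i ∈ S, s i = 4 * S.card := by
    rw [Finset.sum_congr rfl hfour, Finset.sum_const, smul_eq_mul, mul_comm]
  rw [hE, hsum4] at hsumS
  have e4 : (Finset.univ.filter fun i => s i = 4) = S := Finset.filter_congr fun i _ =>
    ⟨fun h => by omega, fun h => (hs34 i).resolve_left h⟩
  have e3 : (Finset.univ.filter fun i => ¬ s i = 4) = R := Finset.filter_congr fun i _ =>
    ⟨fun h => (hs34 i).resolve_right h, fun h => by omega⟩
  exact ⟨hs34, by rw [e4]; omega, by rw [e3]; omega⟩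

section Structure

variable {α : Type*} [Fintype α] [DecidableEq α] {A : Subgroup (Equiv.Perm α)}

local notation "O" => orbitRel.Quotient A α

theorem mem_orbit_out (x : α) : x ∈ orbit A (Quotient.out (Quotient.mk'' x : O)) := by
  rw [← orbitRel.Quotient.orbit_eq_orbit_out (Quotient.mk'' x : O) Quotient.out_eq']
  exact orbitRel.Quotient.mem_orbit.2 rfl

theorem out_of_mem {o o' : O} (h : o'.out ∈ orbit A o.out) : o' = o := by
  rw [← Quotient.out_eq' o', ← Quotient.out_eq' o]
  exact Quotient.sound' (orbitRel_apply.2 h)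

theorem natCard_orbit (o : O) : Nat.card o.orbit = (stabilizer A o.out).index := by
  rw [orbitRel.Quotient.orbit_eq_orbit_out o Quotient.out_eq', index_stabilizer, Nat.card_coe_set_eq]

theorem card_alternatives (hA : IsMulCommutative A) [Fintype O] :
    2 * Nat.card A ≤ ∏ o : O, Nat.card o.orbit ∨
      (Nat.card A = ∏ o : O, Nat.card o.orbit ∧ ∀ (o : O) (a : A), ∃ b : A, b • o.out = a • o.out ∧
        ∀ o' : O, o' ≠ o → b • o'.out = o'.out) := by
  classical
  haveI hn : ∀ o : O, (stabilizer A o.out).Normal := fun o => ⟨fun s hs g => by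
    rw [mul_comm' g s, mul_inv_cancel_right]; exact hs⟩
  let ψ : A →* (∀ o : O, A ⧸ stabilizer A o.out) :=
    Pi.monoidHom fun o => QuotientGroup.mk' (stabilizer A o.out)
  have hinj : Function.Injective ψ := by
    rw [injective_iff_map_eq_one]
    intro a ha
    refine Subtype.ext (Equiv.ext fun x => ?_)
    obtain ⟨c, hc⟩ := mem_orbit_out (A := A) x
    simp only at hc
    have h1 : a • (Quotient.out (Quotient.mk'' x : O)) = Quotient.out (Quotient.mk'' x : O) :=
      (QuotientGroup.eq_one_iff a).1 (congrFun ha _)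
    show a • x = x
    rw [← hc, ← mul_smul, mul_comm' a c, mul_smul, h1]
  have hcard : Nat.card (∀ o : O, A ⧸ stabilizer A o.out) = ∏ o : O, Nat.card o.orbit := by
    rw [Nat.card_pi]
    exact Finset.prod_congr rfl fun o _ => by rw [natCard_orbit]; rfl
  obtain ⟨c, hc⟩ := Subgroup.card_dvd_of_injective ψ hinj
  rw [← hcard]
  rcases Nat.lt_or_ge c 2 with h | h
  · right
    have hc1 : c = 1 := by
      rcases Nat.eq_zero_or_pos c with h0 | h0
      · rw [h0, mul_zero] at hc; exact absurd hc Nat.card_pos.ne'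
      · omega
    rw [hc1, mul_one] at hc
    refine ⟨hc.symm, fun o a => ?_⟩
    obtain ⟨b, hb⟩ := ((Nat.bijective_iff_injective_and_card ψ).2 ⟨hinj, hc.symm⟩).2
      (Pi.mulSingle o (QuotientGroup.mk a))
    refine ⟨b, ?_, fun o' ho' => ?_⟩
    · have h1 : (QuotientGroup.mk b : A ⧸ stabilizer A o.out) = QuotientGroup.mk a := by
        have := congrFun hb o
        rwa [Pi.mulSingle_eq_same] at this
      have h2 : (b⁻¹ * a) • o.out = o.out := QuotientGroup.eq.1 h1
      rw [mul_smul, inv_smul_eq_iff] at h2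
      exact h2.symm
    · have := congrFun hb o'
      rw [Pi.mulSingle_eq_of_ne ho'] at this
      exact (QuotientGroup.eq_one_iff b).1 this
  · left
    rw [hc, mul_comm 2]
    exact Nat.mul_le_mul_left _ h

theorem fix_other (hA : IsMulCommutative A) {b : A} {o o' : O} (hb : ∀ o'' : O, o'' ≠ o → b • o''.out = o''.out)
    {x : α} (hx : x ∈ orbit A o'.out) (h : o' ≠ o) : b • x = x := by
  obtain ⟨c, rfl⟩ := hx
  simp only
  rw [← mul_smul, mul_comm' b c, mul_smul, hb o' h]

/-- A component cannot be a cycle of even length. -/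
theorem no_even_cycle (hA : IsMulCommutative A) (heven : ∀ a ∈ A, Equiv.Perm.sign a = 1) {o : O} {b : A}
    (hb : ∀ o' : O, o' ≠ o → b • o'.out = o'.out) {m : ℕ} (hm : Even m) (hcard : Nat.card o.orbit = m)
    (hne : b • o.out ≠ o.out) (hinj : Function.Injective fun i : Fin m => b ^ (i : ℕ) • o.out) : False := by
  classical
  have horb : ∀ x ∈ orbit A o.out, ∃ i : ℕ, b ^ i • o.out = x := by
    intro x hx
    have hsurj : Function.Surjective (fun i : Fin m => (⟨b ^ (i : ℕ) • o.out, by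
        rw [orbitRel.Quotient.orbit_eq_orbit_out o Quotient.out_eq']; exact mem_orbit _ _⟩ : o.orbit)) := by
      refine ((Nat.bijective_iff_injective_and_card _).2 ⟨fun i i' h => hinj (congrArg Subtype.val h), ?_⟩).2
      rw [Nat.card_fin, hcard]
    obtain ⟨i, hi⟩ := hsurj ⟨x, by rw [orbitRel.Quotient.orbit_eq_orbit_out o Quotient.out_eq']; exact hx⟩
    exact ⟨i, congrArg Subtype.val hi⟩
  set σ : Equiv.Perm α := (b : Equiv.Perm α)
  have hpow : ∀ i : ℕ, (σ ^ i) o.out = b ^ i • o.out := fun i => by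
    rw [← SubmonoidClass.coe_pow]; rfl
  have hmoved : ∀ x, σ x ≠ x → x ∈ orbit A o.out := by
    intro x hx
    by_contra hxo
    exact hx (fix_other hA hb (mem_orbit_out x) fun e => hxo (e ▸ mem_orbit_out x))
  have hfixed : ∀ x ∈ orbit A o.out, σ x ≠ x := by
    intro x hx e
    obtain ⟨c, rfl⟩ := hx
    have e' : b • c • o.out = c • o.out := e
    rw [← mul_smul, mul_comm' b c, mul_smul] at e'
    exact hne (MulAction.injective c e')
  have hcyc : σ.IsCycle := by
    refine ⟨o.out, hfixed _ (mem_orbit_self _), fun y hy => ?_⟩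
    obtain ⟨i, hi⟩ := horb y (hmoved y hy)
    exact ⟨(i : ℤ), by rw [zpow_natCast, hpow, hi]⟩
  have hsupp : σ.support.card = m := by
    rw [← hcard, orbitRel.Quotient.orbit_eq_orbit_out o Quotient.out_eq', ← Nat.card_eq_finsetCard]
    exact Nat.card_congr (Equiv.subtypeEquivRight fun x =>
      ⟨fun h => hmoved x (Equiv.Perm.mem_support.1 h), fun h => Equiv.Perm.mem_support.2 (hfixed x h)⟩)
  have := hcyc.sign
  rw [hsupp, hm.neg_one_pow, heven _ b.2] at this
  exact absurd this (by decide)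

theorem structure_eq {j k : ℕ} (hj : j ≤ 2) (hn : Nat.card α = 4 * j + 3 * k) (hA : IsMulCommutative A)
    (heven : ∀ a ∈ A, Equiv.Perm.sign a = 1) (hbig : 4 ^ j * 3 ^ k ≤ Nat.card A) :
    ∃ e : Pts j k ≃ α, A = ((e.permCongrHom.toMonoidHom).comp (std j k)).range := by
  classical
  haveI := Fintype.ofFinite O
  set s : O → ℕ := fun o => Nat.card o.orbit with hsdef
  have hspos : ∀ o, 1 ≤ s o := fun o => by
    haveI : Nonempty o.orbit := ⟨⟨o.out, by
      rw [orbitRel.Quotient.orbit_eq_orbit_out o Quotient.out_eq']; exact mem_orbit_self _⟩⟩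
    exact Nat.card_pos
  have hsum : ∑ o, s o = 4 * j + 3 * k := by
    rw [← hn, hsdef, ← Nat.card_sigma]
    exact (Nat.card_congr (selfEquivSigmaOrbits' A α)).symm
  have hPb : ∏ o, s o ≤ best (4 * j + 3 * k) := hsum ▸ prod_le_best _ _ fun o _ => hspos o
  have hbest : best (4 * j + 3 * k) < 2 * (4 ^ j * 3 ^ k) := by
    obtain ⟨b0, -, -⟩ := best_formula k
    obtain ⟨-, b2, -⟩ := best_formula (k + 2)
    obtain ⟨-, -, b1⟩ := best_formula k
    have hp : 0 < 3 ^ k := pow_pos (by norm_num) k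
    interval_cases j
    · simp [b0]
    · rw [show 4 * 1 + 3 * k = 3 * (k + 1) + 1 by ring, b1]; omega
    · rw [show 4 * 2 + 3 * k = 3 * (k + 2) + 2 by ring, b2, pow_add]; omega
  rcases card_alternatives hA with h | ⟨hP, hsingle⟩
  · have : ∏ o, s o < 2 * (4 ^ j * 3 ^ k) := lt_of_le_of_lt hPb hbest
    simp only [hsdef] at this
    omega
  have hfaith : ∀ (o : O) (a : A), ∃ b : A, b • o.out = a • o.out ∧ ∀ o' : O, o' ≠ o → b • o'.out = o'.out :=
    hsingle
  have hnot2 : ∀ o, s o ≠ 2 := by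
    intro o ho
    obtain ⟨a, ha⟩ : ∃ a : A, a • o.out ≠ o.out := by
      by_contra hcon
      push Not at hcon
      have : (stabilizer A o.out).index = 1 := Subgroup.index_eq_one.2 (eq_top_iff.2 fun a _ => hcon a)
      rw [← natCard_orbit] at this
      simp only [hsdef] at ho
      omega
    obtain ⟨b, hb1, hb⟩ := hfaith o a
    refine no_even_cycle hA heven hb even_two ho (hb1 ▸ ha) fun x y h => ?_
    have hbne : b • o.out ≠ o.out := hb1 ▸ ha
    fin_cases x <;> fin_cases y <;> first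
      | rfl
      | exact absurd (by simpa using h) hbne
      | exact absurd (by simpa using h.symm) hbne
  obtain ⟨h34, hcj, hck⟩ := shape s hspos hnot2 hj hsum (hbig.trans_eq hP)
  haveI hn' : ∀ o : O, (stabilizer A o.out).Normal := fun o => ⟨fun s hs g => by
    rw [mul_comm' g s, mul_inv_cancel_right]; exact hs⟩
  have h3 : ∀ o, ¬ s o = 4 → Nonempty ((A ⧸ stabilizer A o.out) ≃* Multiplicative (ZMod 3)) := by
    intro o ho
    haveI : Fact (Nat.Prime 3) := ⟨Nat.prime_three⟩
    have hq : Nat.card (A ⧸ stabilizer A o.out) = 3 := by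
      have h0 := (h34 o).resolve_right ho
      simp only [hsdef] at h0
      rw [natCard_orbit] at h0
      exact h0
    haveI := isCyclic_of_prime_card hq
    exact ⟨mulEquivOfCyclicCardEq (by rw [hq]; simp)⟩
  have h4 : ∀ o, s o = 4 → Nonempty ((A ⧸ stabilizer A o.out) ≃* Multiplicative (ZMod 2 × ZMod 2)) := by
    intro o ho
    have hq : Nat.card (A ⧸ stabilizer A o.out) = 4 := by
      simp only [hsdef] at ho
      rw [natCard_orbit] at ho
      exact ho
    have hsq : ∀ q : A ⧸ stabilizer A o.out, q ^ 2 = 1 := by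
      intro q
      obtain ⟨a, rfl⟩ := QuotientGroup.mk_surjective q
      by_contra hne
      obtain ⟨b, hb1, hb⟩ := hfaith o a
      have hab : (QuotientGroup.mk b : A ⧸ stabilizer A o.out) = QuotientGroup.mk a := by
        refine QuotientGroup.eq.2 ?_
        rw [mem_stabilizer_iff, mul_smul, ← hb1, inv_smul_smul]
      rw [← hab] at hne
      have hord : orderOf (QuotientGroup.mk b : A ⧸ stabilizer A o.out) = 4 := by
        have hdvd := orderOf_dvd_natCard (QuotientGroup.mk b : A ⧸ stabilizer A o.out)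
        rw [hq] at hdvd
        obtain ⟨e, he, hee⟩ := (Nat.dvd_prime_pow Nat.prime_two (m := 2)).1 hdvd
        interval_cases e
        · exact absurd (by rw [orderOf_eq_one_iff.1 hee, one_pow]) hne
        · exact absurd (orderOf_dvd_iff_pow_eq_one.1 (dvd_of_eq hee)) hne
        · exact hee
      have hfix : ∀ i : ℕ, b ^ i • o.out = o.out → 4 ∣ i := fun i hi => by
        rw [← hord, orderOf_dvd_iff_pow_eq_one, ← QuotientGroup.mk_pow]
        exact (QuotientGroup.eq_one_iff _).2 hi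
      refine no_even_cycle hA heven hb (by norm_num : Even 4) ho (fun h => ?_) fun x y hxy => ?_
      · have := hfix 1 (by rw [pow_one]; exact h)
        norm_num at this
      · simp only at hxy
        have key : ∀ u v : ℕ, u ≤ v → v < 4 → b ^ u • o.out = b ^ v • o.out → u = v := by
          intro u v huv hv h
          have h1 := hfix (v - u) (MulAction.injective (b ^ u) (by
            simp only; rw [← mul_smul, ← pow_add, Nat.add_sub_cancel' huv, h]))
          omega
        rcases le_total (x : ℕ) (y : ℕ) with h | h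
        · exact Fin.ext (key _ _ h y.2 hxy)
        · exact Fin.ext (key _ _ h x.2 hxy.symm).symm
    haveI : IsKleinFour (A ⧸ stabilizer A o.out) := by
      refine ⟨hq, ?_⟩
      refine ((Nat.dvd_prime Nat.prime_two).1 (Monoid.exponent_dvd_of_forall_pow_eq_one hsq)).resolve_left fun h => ?_
      haveI := Monoid.exp_eq_one_iff.1 h
      rw [Nat.card_unique] at hq
      omega
    haveI : IsKleinFour (Multiplicative (ZMod 2 × ZMod 2)) := by
      refine ⟨by simp [Nat.card_eq_fintype_card], ?_⟩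
      refine ((Nat.dvd_prime Nat.prime_two).1 (Monoid.exponent_dvd_of_forall_pow_eq_one (by decide))).resolve_left fun h => ?_
      haveI := Monoid.exp_eq_one_iff.1 h
      exact absurd (Subsingleton.elim (Multiplicative.ofAdd ((1, 0) : ZMod 2 × ZMod 2)) 1) (by decide)
    obtain ⟨E⟩ : Nonempty ((A ⧸ stabilizer A o.out) ≃ Multiplicative (ZMod 2 × ZMod 2)) :=
      Finite.card_eq.1 (by rw [hq]; simp [Nat.card_eq_fintype_card])
    exact ⟨IsKleinFour.mulEquiv (E.trans (Equiv.swap (E 1) 1)) (by simp)⟩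
  obtain ⟨ε4⟩ : Nonempty (Fin j ≃ {o : O // s o = 4}) :=
    ⟨(Fintype.equivFinOfCardEq (by rw [Fintype.card_subtype]; exact hcj)).symm⟩
  obtain ⟨ε3⟩ : Nonempty (Fin k ≃ {o : O // ¬ s o = 4}) :=
    ⟨(Fintype.equivFinOfCardEq (by rw [Fintype.card_subtype]; exact hck)).symm⟩
  let ψ4 := fun i => Classical.choice (h4 _ (ε4 i).2)
  let ψ3 := fun i => Classical.choice (h3 _ (ε3 i).2)
  choose a4 ha4 using fun (i : Fin j) (g : ZMod 2 × ZMod 2) =>
    QuotientGroup.mk_surjective ((ψ4 i).symm (Multiplicative.ofAdd g))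
  choose a3 ha3 using fun (i : Fin k) (g : ZMod 3) =>
    QuotientGroup.mk_surjective ((ψ3 i).symm (Multiplicative.ofAdd g))
  let f : Pts j k → α := Sum.elim (fun z => a4 z.1 z.2 • (ε4 z.1).1.out) (fun z => a3 z.1 z.2 • (ε3 z.1).1.out)
  have heq : ∀ (o : O) (a b : A), a • o.out = b • o.out ↔
      (QuotientGroup.mk a : A ⧸ stabilizer A o.out) = QuotientGroup.mk b := by
    intro o a b
    rw [QuotientGroup.eq, mem_stabilizer_iff, mul_smul, inv_smul_eq_iff, eq_comm]
  have hf : Function.Bijective f := by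
    constructor
    · have hoo : ∀ (o o' : O) (a b : A), a • o.out = b • o'.out → o' = o := fun o o' a b h =>
        out_of_mem ⟨b⁻¹ * a, by simp only; rw [mul_smul, h, inv_smul_smul]⟩
      rintro (⟨i, g⟩ | ⟨i, g⟩) (⟨i', g'⟩ | ⟨i', g'⟩) h <;> simp only [f, Sum.elim_inl, Sum.elim_inr] at h
      · obtain rfl : i' = i := ε4.injective (Subtype.ext (hoo _ _ _ _ h))
        rw [heq, ha4, ha4] at h
        rw [Multiplicative.ofAdd.injective ((MulEquiv.injective _) h)]
      · exact absurd ((hoo _ _ _ _ h) ▸ (ε4 i).2) (ε3 i').2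
      · exact absurd ((hoo _ _ _ _ h).symm ▸ (ε4 i').2) (ε3 i).2
      · obtain rfl : i' = i := ε3.injective (Subtype.ext (hoo _ _ _ _ h))
        rw [heq, ha3, ha3] at h
        rw [Multiplicative.ofAdd.injective ((MulEquiv.injective _) h)]
    · intro x
      obtain ⟨c, hc⟩ := mem_orbit_out (A := A) x
      simp only at hc
      generalize (Quotient.mk'' x : O) = o at hc
      by_cases ho : s o = 4
      · obtain ⟨i, hi⟩ := ε4.surjective ⟨o, ho⟩
        have hio : (ε4 i).1 = o := congrArg Subtype.val hi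
        subst hio
        refine ⟨.inl (i, (ψ4 i (QuotientGroup.mk c)).toAdd), ?_⟩
        show a4 i _ • (ε4 i).1.out = x
        rw [← hc, heq, ha4]
        simp [ψ4]
      · obtain ⟨i, hi⟩ := ε3.surjective ⟨o, ho⟩
        have hio : (ε3 i).1 = o := congrArg Subtype.val hi
        subst hio
        refine ⟨.inr (i, (ψ3 i (QuotientGroup.mk c)).toAdd), ?_⟩
        show a3 i _ • (ε3 i).1.out = x
        rw [← hc, heq, ha3]
        simp [ψ3]
  refine ⟨Equiv.ofBijective f hf, ?_⟩
  set e := Equiv.ofBijective f hf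
  have hle : A ≤ ((e.permCongrHom.toMonoidHom).comp (std j k)).range := by
    intro σ hσ
    set a : A := ⟨σ, hσ⟩
    refine ⟨(fun i => ψ4 i (QuotientGroup.mk a), fun i => ψ3 i (QuotientGroup.mk a)), Equiv.ext fun x => ?_⟩
    obtain ⟨p, rfl⟩ := e.surjective x
    show e (std j k _ (e.symm (e p))) = a • e p
    rw [Equiv.symm_apply_apply]
    rcases p with ⟨i, g⟩ | ⟨i, g⟩
    · rw [std_inl]
      show a4 i _ • (ε4 i).1.out = a • a4 i g • (ε4 i).1.out
      rw [← mul_smul, heq, ha4, QuotientGroup.mk_mul, ha4]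
      simp [ψ4, ofAdd_add]
    · rw [std_inr]
      show a3 i _ • (ε3 i).1.out = a • a3 i g • (ε3 i).1.out
      rw [← mul_smul, heq, ha3, QuotientGroup.mk_mul, ha3]
      simp [ψ3, ofAdd_add]
  refine Subgroup.eq_of_le_of_card_ge hle (le_trans (le_of_eq ?_) hbig)
  rw [← Nat.card_congr (MonoidHom.ofInjective (f := (e.permCongrHom.toMonoidHom).comp (std j k))
    (e.permCongrHom.injective.comp (std_injective j k))).toEquiv, card_par]

end Structure

theorem alt_conj {n : ℕ} (A B : Subgroup (alternatingGroup (Fin n))) (hA : IsMulCommutative A)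
    (hB : IsMulCommutative B) {j k : ℕ} (hj : j ≤ 2) (hn : n = 4 * j + 3 * k) (hn0 : 0 < n)
    (hAmax : ∀ C : Subgroup (alternatingGroup (Fin n)), IsMulCommutative C → Nat.card C ≤ Nat.card A)
    (hBmax : ∀ C : Subgroup (alternatingGroup (Fin n)), IsMulCommutative C → Nat.card C ≤ Nat.card B) :
    ∃ g : alternatingGroup (Fin n), B = A.map (MulAut.conj g).toMonoidHom := by
  classical
  have hlow : ∃ C : Subgroup (alternatingGroup (Fin n)), IsMulCommutative C ∧ Nat.card C = 4 ^ j * 3 ^ k := by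
    obtain ⟨e⟩ : Nonempty (Pts j k ≃ Fin n) := Finite.card_eq.1 (by rw [card_pts, Nat.card_fin, hn])
    set f := (e.permCongrHom.toMonoidHom).comp (std j k)
    have hmem : ∀ v, f v ∈ alternatingGroup (Fin n) := fun v => by
      rw [Equiv.Perm.mem_alternatingGroup]
      show Equiv.Perm.sign (e.permCongr (std j k v)) = 1
      rw [Equiv.Perm.sign_permCongr, sign_std]
    have hinj : Function.Injective (f.codRestrict _ hmem) := fun v w h =>
      (e.permCongrHom.injective.comp (std_injective j k)) (congrArg Subtype.val h)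
    refine ⟨(f.codRestrict _ hmem).range, ⟨⟨fun a b => ?_⟩⟩, ?_⟩
    · obtain ⟨v, hv⟩ := a.2
      obtain ⟨w, hw⟩ := b.2
      refine Subtype.ext ?_
      rw [Subgroup.coe_mul, Subgroup.coe_mul, ← hv, ← hw, ← map_mul, ← map_mul, mul_comm]
    · rw [← Nat.card_congr (MonoidHom.ofInjective hinj).toEquiv, card_par]
  obtain ⟨C, hC, hCc⟩ := hlow
  set ι := (alternatingGroup (Fin n)).subtype
  have hprep : ∀ A : Subgroup (alternatingGroup (Fin n)), IsMulCommutative A →
      Nat.card C ≤ Nat.card A → ∃ e : Pts j k ≃ Fin n, A.map ι = ((e.permCongrHom.toMonoidHom).comp (std j k)).range := by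
    intro A hA hle
    refine structure_eq hj (by rw [Nat.card_fin, hn]) ?_ ?_ ?_
    · exact Subgroup.map_isMulCommutative _ ι
    · rintro _ ⟨a, -, rfl⟩
      exact Equiv.Perm.mem_alternatingGroup.1 a.2
    · rw [Subgroup.card_map_of_injective Subtype.val_injective, ← hCc]; exact hle
  obtain ⟨eA, heA⟩ := hprep A hA (hAmax C hC)
  obtain ⟨eB, heB⟩ := hprep B hB (hBmax C hC)
  obtain ⟨τ, hτs, hτn⟩ := exists_odd_normalizer j k (by omega)
  have hpc : ∀ (e : Pts j k ≃ Fin n) (v : Par j k) (x : Fin n),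
      ((e.permCongrHom.toMonoidHom).comp (std j k)) v x = e (std j k v (e.symm x)) := fun e v x => rfl
  obtain ⟨σ, hσ, hconj⟩ : ∃ σ : Equiv.Perm (Fin n), Equiv.Perm.sign σ = 1 ∧
      ∀ a ∈ A.map ι, σ * a * σ⁻¹ ∈ B.map ι := by
    have h0 : ∀ a ∈ A.map ι, (eA.symm.trans eB) * a * (eA.symm.trans eB)⁻¹ ∈ B.map ι := by
      intro a ha
      rw [heA] at ha
      obtain ⟨v, rfl⟩ := ha
      rw [heB]
      refine ⟨v, ?_⟩
      rw [eq_mul_inv_iff_mul_eq]
      ext x : 1
      rw [Equiv.Perm.mul_apply, Equiv.Perm.mul_apply, hpc, hpc]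
      simp
    rcases Int.units_eq_one_or (Equiv.Perm.sign (eA.symm.trans eB)) with h | h
    · exact ⟨_, h, h0⟩
    · refine ⟨(eA.symm.trans eB) * eA.permCongr τ, by rw [map_mul, h, Equiv.Perm.sign_permCongr, hτs]; decide,
        fun a ha => ?_⟩
      rw [heA] at ha
      obtain ⟨v, rfl⟩ := ha
      obtain ⟨w, hw⟩ := hτn v
      have e1 : eA.permCongr τ * ((eA.permCongrHom.toMonoidHom).comp (std j k)) v * (eA.permCongr τ)⁻¹ =
          ((eA.permCongrHom.toMonoidHom).comp (std j k)) w := by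
        show eA.permCongrHom τ * eA.permCongrHom (std j k v) * (eA.permCongrHom τ)⁻¹ = eA.permCongrHom (std j k w)
        rw [← map_inv, ← map_mul, ← map_mul, hw]
      have h1 := h0 _ (heA ▸ ⟨w, rfl⟩ : ((eA.permCongrHom.toMonoidHom).comp (std j k)) w ∈ A.map ι)
      rw [← e1] at h1
      convert h1 using 1
      group
  refine ⟨⟨σ, Equiv.Perm.mem_alternatingGroup.2 hσ⟩, (Subgroup.eq_of_le_of_card_ge ?_ ?_).symm⟩
  · rintro _ ⟨a, ha, rfl⟩
    obtain ⟨b, hb, hbe⟩ := hconj (a : Equiv.Perm (Fin n)) ⟨a, ha, rfl⟩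
    have e : (MulAut.conj (⟨σ, Equiv.Perm.mem_alternatingGroup.2 hσ⟩ : alternatingGroup (Fin n))) a = b :=
      Subtype.ext hbe.symm
    show (MulAut.conj (⟨σ, Equiv.Perm.mem_alternatingGroup.2 hσ⟩ : alternatingGroup (Fin n))) a ∈ B
    rw [e]; exact hb
  · rw [Subgroup.card_map_of_injective (MulEquiv.injective _)]
    exact hAmax B hB

end CfsgLib.AbelianPerm
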