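import Mathlib.GroupTheory.GroupAction.Quotient
import Mathlib.GroupTheory.Perm.Sign
import Mathlib.Data.ZMod.Basic
import Mathlib.Tactic

/-!
The largest abelian subgroups of symmetric groups.
-/

set_option autoImplicit false

namespace CfsgLib.AbelianPerm

open MulAction

/-- The largest product of a partition of `n`. -/
def best : ℕ → ℕ
  | 0 => 1
  | 1 => 1
  | 2 => 2
  | 3 => 3
  | 4 => 4
  | n + 5 => 3 * best (n + 2)

theorem best_add_three {n : ℕ} (h : 2 ≤ n) : best (n + 3) = 3 * best n := by
  obtain ⟨m, rfl⟩ : ∃ m, n = m + 2 := ⟨n - 2, by omega⟩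
  rw [show m + 2 + 3 = m + 5 from rfl, best]

theorem mul_small_le : ∀ n : ℕ, best n ≤ best (n + 1) ∧ 2 * best n ≤ best (n + 2) ∧ 3 * best n ≤ best (n + 3) := by
  intro n
  induction n using Nat.strong_induction_on with
  | _ n ih =>
    rcases Nat.lt_or_ge n 5 with h | h
    · interval_cases n <;> simp [best]
    · obtain ⟨m, rfl⟩ : ∃ m, n = m + 3 := ⟨n - 3, by omega⟩
      obtain ⟨h1, h2, -⟩ := ih m (by omega)
      refine ⟨?_, ?_, (best_add_three (by omega)).ge⟩
      · rw [show m + 3 + 1 = (m + 1) + 3 from rfl, best_add_three (n := m) (by omega), best_add_three (by omega)]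
        omega
      · rw [show m + 3 + 2 = (m + 2) + 3 from rfl, best_add_three (n := m) (by omega), best_add_three (by omega)]
        omega

theorem mul_le_best (m n : ℕ) (hm : 1 ≤ m) : m * best n ≤ best (m + n) := by
  induction m using Nat.strong_induction_on with
  | _ m ih =>
    rcases Nat.lt_or_ge m 5 with h | h
    · interval_cases m
      · rw [one_mul, add_comm]; exact (mul_small_le n).1
      · rw [add_comm]; exact (mul_small_le n).2.1
      · rw [add_comm]; exact (mul_small_le n).2.2
      · have h1 := (mul_small_le n).2.1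
        have h2 := (mul_small_le (n + 2)).2.1
        rw [show 4 + n = n + 2 + 2 by omega]
        omega
    · obtain ⟨j, rfl⟩ : ∃ j, m = j + 3 := ⟨m - 3, by omega⟩
      have h1 := ih j (by omega) (by omega)
      have h2 := (mul_small_le (j + n)).2.2
      rw [show j + 3 + n = j + n + 3 by omega]
      calc (j + 3) * best n ≤ (3 * j) * best n := Nat.mul_le_mul_right _ (by omega)
        _ = 3 * (j * best n) := by ring
        _ ≤ 3 * best (j + n) := Nat.mul_le_mul_left 3 h1
        _ ≤ _ := h2

theorem prod_le_best {ι : Type*} (s : Finset ι) (f : ι → ℕ) (hf : ∀ i ∈ s, 1 ≤ f i) :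
    ∏ i ∈ s, f i ≤ best (∑ i ∈ s, f i) := by
  classical
  induction s using Finset.induction_on with
  | empty => simp [best]
  | @insert a t ha ih =>
    rw [Finset.prod_insert ha, Finset.sum_insert ha]
    exact (Nat.mul_le_mul_left _ (ih fun i hi => hf i (Finset.mem_insert_of_mem hi))).trans
      (mul_le_best _ _ (hf a (Finset.mem_insert_self _ _)))

theorem card_le_prod_orbits {A α : Type*} [Group A] [MulAction A α] [FaithfulSMul A α] [Finite A] [Finite α]
    [Fintype (orbitRel.Quotient A α)] (hA : ∀ a b : A, a * b = b * a) :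
    Nat.card A ≤ ∏ o : orbitRel.Quotient A α, Nat.card o.orbit := by
  classical
  rw [← Nat.card_pi]
  refine Nat.card_le_card_of_injective
    (fun a (o : orbitRel.Quotient A α) => (⟨a • o.out, by
      rw [orbitRel.Quotient.orbit_eq_orbit_out o Quotient.out_eq']
      exact mem_orbit _ _⟩ : o.orbit)) fun a b h => ?_
  refine FaithfulSMul.eq_of_smul_eq_smul (α := α) fun x => ?_
  set o : orbitRel.Quotient A α := Quotient.mk'' x
  have hx : x ∈ orbit A o.out := by
    rw [← orbitRel.Quotient.orbit_eq_orbit_out o Quotient.out_eq']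
    exact orbitRel.Quotient.mem_orbit.2 rfl
  obtain ⟨c, hc⟩ := hx
  have h1 : a • o.out = b • o.out := congrArg Subtype.val (congrFun h o)
  simp only at hc
  rw [← hc, ← mul_smul, ← mul_smul, hA a c, hA b c, mul_smul, mul_smul, h1]

theorem card_le_best {α : Type*} [Finite α] (A : Subgroup (Equiv.Perm α)) (hA : IsMulCommutative A) :
    Nat.card A ≤ best (Nat.card α) := by
  classical
  haveI := Fintype.ofFinite (orbitRel.Quotient A α)
  refine (card_le_prod_orbits (α := α) fun a b => mul_comm' a b).trans ?_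
  have e : Nat.card α = ∑ o : orbitRel.Quotient A α, Nat.card o.orbit := by
    rw [← Nat.card_sigma]
    exact Nat.card_congr (selfEquivSigmaOrbits' A α)
  rw [e]
  refine prod_le_best _ _ fun o _ => ?_
  haveI : Nonempty o.orbit := ⟨⟨o.out, by
    rw [orbitRel.Quotient.orbit_eq_orbit_out o Quotient.out_eq']; exact mem_orbit_self _⟩⟩
  exact Nat.card_pos

theorem exists_abelian {ι : Type*} [Fintype ι] (s : ι → ℕ) (hs : ∀ i, 0 < s i) {α : Type*} [Finite α]
    (hα : Nat.card α = ∑ i, s i) :
    ∃ A : Subgroup (Equiv.Perm α), IsMulCommutative A ∧ Nat.card A = ∏ i, s i := by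
  classical
  haveI : ∀ i, NeZero (s i) := fun i => ⟨(hs i).ne'⟩
  obtain ⟨e⟩ : Nonempty ((Σ i, ZMod (s i)) ≃ α) :=
    Finite.card_eq.1 (by rw [Nat.card_sigma, hα]; exact Finset.sum_congr rfl fun i _ => Nat.card_zmod _)
  let f : (∀ i, Multiplicative (ZMod (s i))) →* Equiv.Perm α :=
    { toFun := fun v => e.permCongr (Equiv.sigmaCongrRight fun i => Equiv.addLeft (v i).toAdd)
      map_one' := by ext x; simp [Equiv.permCongr_apply]
      map_mul' := fun v w => by
        ext x; simp [Equiv.permCongr_apply, add_assoc] }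
  have hf : Function.Injective f := by
    intro v w h
    funext i
    have h1 := congrArg (fun σ : Equiv.Perm α => e.symm (σ (e ⟨i, 0⟩))) h
    simp [f, Equiv.permCongr_apply] at h1
    exact h1
  refine ⟨f.range, ⟨⟨fun a b => ?_⟩⟩, ?_⟩
  · obtain ⟨v, hv⟩ := a.2
    obtain ⟨w, hw⟩ := b.2
    refine Subtype.ext ?_
    rw [Subgroup.coe_mul, Subgroup.coe_mul, ← hv, ← hw, ← map_mul, ← map_mul, mul_comm]
  · rw [← Nat.card_congr (MonoidHom.ofInjective hf).toEquiv, Nat.card_pi]
    exact Finset.prod_congr rfl fun i _ => Nat.card_congr Multiplicative.toAdd |>.trans (Nat.card_zmod _)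

theorem best_formula (k : ℕ) :
    best (3 * k) = 3 ^ k ∧ best (3 * k + 2) = 2 * 3 ^ k ∧ best (3 * (k + 1) + 1) = 4 * 3 ^ k := by
  induction k with
  | zero => simp [best]
  | succ k ih =>
    obtain ⟨h0, h2, h1⟩ := ih
    refine ⟨?_, ?_, ?_⟩
    · rcases Nat.eq_zero_or_pos k with rfl | hk
      · simp [best]
      · rw [mul_add, mul_one, best_add_three (by omega), h0, pow_succ, mul_comm]
    · rw [show 3 * (k + 1) + 2 = 3 * k + 2 + 3 by ring, best_add_three (by omega), h2, pow_succ]
      ring
    · rw [show 3 * (k + 1 + 1) + 1 = 3 * (k + 1) + 1 + 3 by ring, best_add_three (by omega), h1, pow_succ]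
      ring

end CfsgLib.AbelianPerm
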