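import Cfsg.Agent.AbelianPerm.Bound
import Mathlib.GroupTheory.Perm.Cycle.Basic
import Mathlib.GroupTheory.SpecificGroups.KleinFour
import Mathlib.GroupTheory.SpecificGroups.Alternating

/-!
The standard largest abelian even permutation groups.
-/

set_option autoImplicit false

namespace CfsgLib.AbelianPerm

open Equiv

/-- The block translations by copies of `G`. -/
def tr (ι G : Type*) [DecidableEq ι] [AddCommGroup G] : (ι → Multiplicative G) →* Equiv.Perm (ι × G) where
  toFun v := Equiv.prodCongrRight fun i => Equiv.addLeft (v i).toAdd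
  map_one' := by ext x <;> simp
  map_mul' v w := by ext x <;> simp [add_assoc]

theorem tr_apply {ι G : Type*} [DecidableEq ι] [AddCommGroup G] (v : ι → Multiplicative G) (x : ι × G) :
    tr ι G v x = (x.1, (v x.1).toAdd + x.2) := rfl

theorem sign_tr {ι G : Type*} [DecidableEq ι] [Fintype ι] [AddCommGroup G] [Fintype G] [DecidableEq G]
    (h : ∀ g : G, Equiv.Perm.sign (Equiv.addLeft g) = 1) (v : ι → Multiplicative G) :
    Equiv.Perm.sign (tr ι G v) = 1 := by
  have h1 : (Equiv.Perm.sign.comp (tr ι G)) = 1 := by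
    refine MonoidHom.pi_ext fun i x => ?_
    have e : tr ι G (Pi.mulSingle i x) = Equiv.Perm.prodExtendRight i (Equiv.addLeft x.toAdd) := by
      ext ⟨a, g⟩ : 1
      rw [tr_apply]
      rcases eq_or_ne a i with rfl | ha
      · rw [Pi.mulSingle_eq_same, Equiv.Perm.prodExtendRight_apply_eq]; rfl
      · rw [Pi.mulSingle_eq_of_ne ha, Equiv.Perm.prodExtendRight_apply_ne _ ha]; simp
    rw [MonoidHom.comp_apply, e, MonoidHom.one_apply]
    exact (Equiv.Perm.sign_prodExtendRight _ _).trans (h x.toAdd)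
  exact DFunLike.congr_fun h1 v

/-- The blocks. -/
abbrev Pts (j k : ℕ) : Type := (Fin j × (ZMod 2 × ZMod 2)) ⊕ (Fin k × ZMod 3)

/-- The parameters. -/
abbrev Par (j k : ℕ) : Type := (Fin j → Multiplicative (ZMod 2 × ZMod 2)) × (Fin k → Multiplicative (ZMod 3))

/-- The standard group. -/
def std (j k : ℕ) : Par j k →* Equiv.Perm (Pts j k) :=
  (Equiv.Perm.sumCongrHom _ _).comp (MonoidHom.prodMap (tr _ _) (tr _ _))

theorem std_inl (j k : ℕ) (v : Par j k) (i : Fin j) (g : ZMod 2 × ZMod 2) :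
    std j k v (.inl (i, g)) = .inl (i, (v.1 i).toAdd + g) := rfl

theorem std_inr (j k : ℕ) (v : Par j k) (i : Fin k) (g : ZMod 3) :
    std j k v (.inr (i, g)) = .inr (i, (v.2 i).toAdd + g) := rfl

theorem std_injective (j k : ℕ) : Function.Injective (std j k) := by
  intro v w h
  refine Prod.ext (funext fun i => ?_) (funext fun i => ?_)
  · have h1 := DFunLike.congr_fun h (Sum.inl (i, 0))
    rw [std_inl, std_inl] at h1
    simpa using h1
  · have h1 := DFunLike.congr_fun h (Sum.inr (i, 0))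
    rw [std_inr, std_inr] at h1
    simpa using h1

theorem sign_std (j k : ℕ) (v : Par j k) : Equiv.Perm.sign (std j k v) = 1 := by
  show Equiv.Perm.sign (Equiv.Perm.sumCongr (tr _ _ v.1) (tr _ _ v.2)) = 1
  rw [Equiv.Perm.sign_sumCongr, sign_tr (by decide), sign_tr (by decide), mul_one]

theorem card_par (j k : ℕ) : Nat.card (Par j k) = 4 ^ j * 3 ^ k := by
  simp [Nat.card_eq_fintype_card]

theorem card_pts (j k : ℕ) : Nat.card (Pts j k) = 4 * j + 3 * k := by
  simp [Nat.card_eq_fintype_card]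
  ring

/-- Some odd permutation normalizes the standard group. -/
theorem exists_odd_normalizer (j k : ℕ) (h : 0 < j ∨ 0 < k) : ∃ τ : Equiv.Perm (Pts j k),
    Equiv.Perm.sign τ = -1 ∧ ∀ v : Par j k, ∃ w : Par j k, τ * std j k v * τ⁻¹ = std j k w := by
  rcases h with h | h
  · let φ : ZMod 2 × ZMod 2 ≃+ ZMod 2 × ZMod 2 := AddEquiv.prodComm
    let t : Equiv.Perm (Fin j × (ZMod 2 × ZMod 2)) := Equiv.Perm.prodExtendRight ⟨0, h⟩ φ.toEquiv
    refine ⟨Equiv.Perm.sumCongr t 1, ?_, fun v =>
      ⟨(fun i => if i = ⟨0, h⟩ then Multiplicative.ofAdd (φ (v.1 i).toAdd) else v.1 i, v.2), ?_⟩⟩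
    · rw [Equiv.Perm.sign_sumCongr, Equiv.Perm.sign_one, mul_one]
      exact (Equiv.Perm.sign_prodExtendRight _ _).trans (by decide)
    · rw [mul_inv_eq_iff_eq_mul]
      ext x : 1
      rw [Equiv.Perm.mul_apply, Equiv.Perm.mul_apply]
      rcases x with ⟨i, g⟩ | ⟨i, g⟩
      · rw [std_inl, Equiv.Perm.sumCongr_apply, Equiv.Perm.sumCongr_apply, Sum.map_inl, Sum.map_inl]
        rcases eq_or_ne i ⟨0, h⟩ with rfl | hi
        · show Sum.inl (t _) = std j k _ (Sum.inl (t _))
          simp only [t]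
          rw [Equiv.Perm.prodExtendRight_apply_eq, Equiv.Perm.prodExtendRight_apply_eq, std_inl]
          simp
        · show Sum.inl (t _) = std j k _ (Sum.inl (t _))
          simp only [t]
          rw [Equiv.Perm.prodExtendRight_apply_ne _ hi, Equiv.Perm.prodExtendRight_apply_ne _ hi, std_inl]
          simp [hi]
      · rw [std_inr, Equiv.Perm.sumCongr_apply, Equiv.Perm.sumCongr_apply, Sum.map_inr, Sum.map_inr]
        simp [std_inr]
  · let φ : ZMod 3 ≃+ ZMod 3 := AddEquiv.neg _
    let t : Equiv.Perm (Fin k × ZMod 3) := Equiv.Perm.prodExtendRight ⟨0, h⟩ φ.toEquiv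
    refine ⟨Equiv.Perm.sumCongr 1 t, ?_, fun v =>
      ⟨(v.1, fun i => if i = ⟨0, h⟩ then Multiplicative.ofAdd (φ (v.2 i).toAdd) else v.2 i), ?_⟩⟩
    · rw [Equiv.Perm.sign_sumCongr, Equiv.Perm.sign_one, one_mul]
      exact (Equiv.Perm.sign_prodExtendRight _ _).trans (by decide)
    · rw [mul_inv_eq_iff_eq_mul]
      ext x : 1
      rw [Equiv.Perm.mul_apply, Equiv.Perm.mul_apply]
      rcases x with ⟨i, g⟩ | ⟨i, g⟩
      · rw [std_inl, Equiv.Perm.sumCongr_apply, Equiv.Perm.sumCongr_apply, Sum.map_inl, Sum.map_inl]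
        simp [std_inl]
      · rw [std_inr, Equiv.Perm.sumCongr_apply, Equiv.Perm.sumCongr_apply, Sum.map_inr, Sum.map_inr]
        rcases eq_or_ne i ⟨0, h⟩ with rfl | hi
        · show Sum.inr (t _) = std j k _ (Sum.inr (t _))
          simp only [t]
          rw [Equiv.Perm.prodExtendRight_apply_eq, Equiv.Perm.prodExtendRight_apply_eq, std_inr]
          simp [φ, add_comm]
        · show Sum.inr (t _) = std j k _ (Sum.inr (t _))
          simp only [t]
          rw [Equiv.Perm.prodExtendRight_apply_ne _ hi, Equiv.Perm.prodExtendRight_apply_ne _ hi, std_inr]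
          simp [hi]

end CfsgLib.AbelianPerm
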